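import Cfsg.Agent.Lib.Char.FourBound.OddNormal
import Mathlib.GroupTheory.GroupAction.Quotient
import Mathlib.GroupTheory.Sylow

/-!
# A group with a four-group with small centralizers is small

`exists_bound`: the order of a group is bounded by a function of the exponent of two in it and of
the orders of the centralizers of the three involutions of a four-group (Brauer–Fowler).
-/

set_option autoImplicit false

namespace CfsgLib.Char.FourBound

universe u

variable {G : Type u} [Group G] [Finite G]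

/-- Two commuting involutions with centralizers of order at most `c`. -/
structure Four (c : ℕ) (s t : G) : Prop where
  ss : s * s = 1
  tt : t * t = 1
  comm : s * t = t * s
  s1 : s ≠ 1
  t1 : t ≠ 1
  ne : s ≠ t
  cs : Nat.card (Subgroup.centralizer ({s} : Set G)) ≤ c
  ct : Nat.card (Subgroup.centralizer ({t} : Set G)) ≤ c
  cu : Nat.card (Subgroup.centralizer ({s * t} : Set G)) ≤ c

variable {c : ℕ} {s t : G}

theorem card_le_conj_mul {w : G} {T : Set G} (hT : ∀ g : G, g * w * g⁻¹ ∈ T)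
    (hw : Nat.card (Subgroup.centralizer ({w} : Set G)) ≤ c) : Nat.card G ≤ Nat.card T * c := by
  refine card_le_of_fibres (fun g => (⟨g * w * g⁻¹, hT g⟩ : T)) fun b => ?_
  rcases isEmpty_or_nonempty {g : G // (⟨g * w * g⁻¹, hT g⟩ : T) = b} with he | ⟨⟨g₀, hg₀⟩⟩
  · rw [Nat.card_of_isEmpty]; exact Nat.zero_le _
  refine le_trans (Nat.card_le_card_of_injective
    (fun g => (⟨g₀⁻¹ * g.1, ?_⟩ : Subgroup.centralizer ({w} : Set G))) ?_) hw
  · have e : g.1 * w * g.1⁻¹ = g₀ * w * g₀⁻¹ := congrArg Subtype.val (g.2.trans hg₀.symm)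
    rw [Subgroup.mem_centralizer_singleton_iff]
    calc g₀⁻¹ * g.1 * w = g₀⁻¹ * (g.1 * w * g.1⁻¹) * g.1 := by group
      _ = g₀⁻¹ * (g₀ * w * g₀⁻¹) * g.1 := by rw [e]
      _ = w * (g₀⁻¹ * g.1) := by group
  · intro g g' h
    exact Subtype.ext (mul_left_cancel (congrArg Subtype.val h))

/-- An involution in a normal subgroup bounds the group. -/
theorem card_le_of_mem {N : Subgroup G} [N.Normal] {w : G} (hw : w ∈ N)
    (hc : Nat.card (Subgroup.centralizer ({w} : Set G)) ≤ c) : Nat.card G ≤ Nat.card N * c :=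
  card_le_conj_mul (T := (N : Set G)) (fun g => Subgroup.Normal.conj_mem inferInstance w hw g) hc

/-- Centralizers in a quotient. -/
theorem card_centralizer_quot {N : Subgroup G} [N.Normal] {w : G}
    (hc : Nat.card (Subgroup.centralizer ({w} : Set G)) ≤ c) :
    Nat.card (Subgroup.centralizer ({(w : G ⧸ N)} : Set (G ⧸ N))) ≤ Nat.card N * c := by
  set C := (Subgroup.centralizer ({(w : G ⧸ N)} : Set (G ⧸ N))).comap (QuotientGroup.mk' N) with hC
  have h1 : Nat.card (Subgroup.centralizer ({(w : G ⧸ N)} : Set (G ⧸ N))) ≤ Nat.card C :=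
    Nat.card_le_card_of_surjective (fun x : C => (⟨QuotientGroup.mk' N x, x.2⟩ :
      Subgroup.centralizer ({(w : G ⧸ N)} : Set (G ⧸ N)))) fun y => by
      obtain ⟨g, hg⟩ := QuotientGroup.mk'_surjective N y.1
      exact ⟨⟨g, by rw [hC, Subgroup.mem_comap, hg]; exact y.2⟩, Subtype.ext hg⟩
  have hC' : ∀ g : C, w⁻¹ * ((g : G) * w * (g : G)⁻¹) ∈ N := fun g => by
    have : (g : G) ∈ (Subgroup.centralizer ({(w : G ⧸ N)} : Set (G ⧸ N))).comap
      (QuotientGroup.mk' N) := g.2
    rw [Subgroup.mem_comap, Subgroup.mem_centralizer_singleton_iff] at this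
    rw [← QuotientGroup.eq]
    rw [QuotientGroup.mk_mul, QuotientGroup.mk_mul, QuotientGroup.mk_inv]
    exact (mul_inv_eq_iff_eq_mul.mpr this).symm
  refine h1.trans (card_le_of_fibres (fun g : C => (⟨_, hC' g⟩ : N)) fun b => ?_)
  rcases isEmpty_or_nonempty {g : C // (⟨_, hC' g⟩ : N) = b} with he | ⟨⟨g₀, hg₀⟩⟩
  · rw [Nat.card_of_isEmpty]; exact Nat.zero_le _
  refine le_trans (Nat.card_le_card_of_injective
    (fun g => (⟨(g₀ : G)⁻¹ * (g.1 : G), ?_⟩ : Subgroup.centralizer ({w} : Set G))) ?_) hc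
  · have e : (g.1 : G) * w * (g.1 : G)⁻¹ = (g₀ : G) * w * (g₀ : G)⁻¹ :=
      mul_left_cancel (congrArg Subtype.val (g.2.trans hg₀.symm))
    rw [Subgroup.mem_centralizer_singleton_iff]
    calc (g₀ : G)⁻¹ * g.1 * w = (g₀ : G)⁻¹ * ((g.1 : G) * w * (g.1 : G)⁻¹) * g.1 := by group
      _ = (g₀ : G)⁻¹ * ((g₀ : G) * w * (g₀ : G)⁻¹) * g.1 := by rw [e]
      _ = w * ((g₀ : G)⁻¹ * g.1) := by group
  · intro g g' h
    exact Subtype.ext (Subtype.ext (mul_left_cancel (congrArg Subtype.val h)))

theorem Four.quot (h : Four c s t) {N : Subgroup G} [N.Normal] {m : ℕ} (hm : Nat.card N ≤ m)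
    (h1 : s ∉ N) (h2 : t ∉ N) (h3 : s * t ∉ N) : Four (m * c) (s : G ⧸ N) (t : G ⧸ N) where
  ss := by rw [← QuotientGroup.mk_mul, h.ss]; rfl
  tt := by rw [← QuotientGroup.mk_mul, h.tt]; rfl
  comm := by rw [← QuotientGroup.mk_mul, h.comm]; rfl
  s1 := fun e => h1 ((QuotientGroup.eq_one_iff s).mp e)
  t1 := fun e => h2 ((QuotientGroup.eq_one_iff t).mp e)
  ne := fun e => h3 (by
    have := QuotientGroup.eq.mp e
    rwa [inv_eq_of_mul_eq_one_right h.ss] at this)
  cs := (card_centralizer_quot h.cs).trans (Nat.mul_le_mul_right c hm)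
  ct := (card_centralizer_quot h.ct).trans (Nat.mul_le_mul_right c hm)
  cu := by
    rw [← QuotientGroup.mk_mul]
    exact (card_centralizer_quot h.cu).trans (Nat.mul_le_mul_right c hm)

/-- A largest normal subgroup of odd order contains every normal subgroup of odd order. -/
theorem exists_odd_radical (G : Type u) [Group G] [Finite G] : ∃ O : Subgroup G, O.Normal ∧
    Odd (Nat.card O) ∧ ∀ K : Subgroup G, K.Normal → Odd (Nat.card K) → K ≤ O := by
  obtain ⟨O, hO⟩ := Set.Finite.exists_maximal (s := {K : Subgroup G | K.Normal ∧ Odd (Nat.card K)})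
    (Set.toFinite _) ⟨⊥, Subgroup.normal_bot, by rw [Subgroup.card_bot]; exact odd_one⟩
  refine ⟨O, hO.prop.1, hO.prop.2, fun K hK hKo => ?_⟩
  have := hO.prop.1
  have := hK
  have hsup : Odd (Nat.card (K ⊔ O : Subgroup G)) := by
    refine Odd.of_dvd_nat (hKo.mul hO.prop.2) ?_
    rw [← Subgroup.card_mul_index (O.subgroupOf (K ⊔ O)),
      Nat.card_congr (Subgroup.subgroupOfEquivOfLe le_sup_right).toEquiv, mul_comm (Nat.card K)]
    refine Nat.mul_dvd_mul_left _ ?_
    rw [← Subgroup.relIndex, Subgroup.relIndex_sup_right]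
    exact Subgroup.relIndex_dvd_card _ _
  exact le_trans le_sup_left (hO.le_of_ge ⟨inferInstance, hsup⟩ le_sup_right)

/-- **Brauer–Fowler**: some non-trivial element has a centralizer of small index. -/
theorem exists_small_index {w : G} (hw : w * w = 1) (hcw : Nat.card (Subgroup.centralizer ({w} : Set G)) ≤ c)
    (hne : ∃ g : G, g * w * g⁻¹ ≠ w) :
    ∃ x : G, x ≠ 1 ∧ (Subgroup.centralizer ({x} : Set G)).index ≤ 2 * (c * c) := by
  classical
  have := Fintype.ofFinite G
  set n := Nat.card G with hn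
  let T := {a : G // IsConj w a}
  set k := Nat.card T with hk
  have hTT : ∀ a : T, (a : G) * a = 1 := fun a => by
    obtain ⟨g, hg⟩ := isConj_iff.mp a.2
    rw [← hg, show g * w * g⁻¹ * (g * w * g⁻¹) = g * (w * w) * g⁻¹ by group, hw]
    group
  have hnk : n ≤ k * c := card_le_conj_mul (T := {a : G | IsConj w a})
    (fun g => isConj_iff.mpr ⟨g, rfl⟩) hcw
  have hk2 : 2 ≤ k := by
    obtain ⟨g, hg⟩ := hne
    refine Finite.one_lt_card_iff_nontrivial.mpr ⟨⟨⟨w, IsConj.refl w⟩,
      ⟨g * w * g⁻¹, isConj_iff.mpr ⟨g, rfl⟩⟩, fun e => hg (congrArg Subtype.val e).symm⟩⟩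
  let N : G → ℕ := fun x => Nat.card {q : T × T // (q.1 : G) * q.2 = x}
  have hsum : ∑ x : G, N x = k * k := by
    rw [← Nat.card_sigma, Nat.card_congr (Equiv.sigmaFiberEquiv _), Nat.card_prod]
  have hone : N 1 ≤ k := by
    refine Nat.card_le_card_of_injective (fun q => q.1.1) fun q q' h => ?_
    have e1 := q.2
    have e2 := q'.2
    simp only at h
    rw [h] at e1
    exact Subtype.ext (Prod.ext h (Subtype.ext (mul_left_cancel (e1.trans e2.symm))))
  have hN : ∀ x, N x ≤ Nat.card (Subgroup.centralizer ({x} : Set G)) := by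
    intro x
    rcases isEmpty_or_nonempty {q : T × T // (q.1 : G) * q.2 = x} with he | ⟨⟨q₀, hq₀⟩⟩
    · show Nat.card _ ≤ _
      rw [Nat.card_of_isEmpty]; exact Nat.zero_le _
    have hinv : ∀ q : T × T, (q.1 : G) * q.2 = x → (q.1 : G) * x * q.1 = x⁻¹ := fun q hq => by
      rw [← hq, mul_inv_rev, inv_eq_of_mul_eq_one_right (hTT q.1),
        inv_eq_of_mul_eq_one_right (hTT q.2), ← mul_assoc (q.1 : G), hTT, one_mul]
    refine Nat.card_le_card_of_injective
      (fun q => (⟨(q₀.1 : G) * q.1.1, ?_⟩ : Subgroup.centralizer ({x} : Set G))) ?_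
    · rw [Subgroup.mem_centralizer_singleton_iff]
      have h1 := hinv q.1 q.2
      have h0 := hinv q₀ hq₀
      calc (q₀.1 : G) * q.1.1 * x = (q₀.1 : G) * ((q.1.1 : G) * x * q.1.1) * q.1.1 := by
            rw [mul_assoc (q₀.1 : G) _ (q.1.1 : G), mul_assoc _ (q.1.1 : G) (q.1.1 : G), hTT,
              mul_one, mul_assoc]
        _ = (q₀.1 : G) * x⁻¹ * q.1.1 := by rw [h1]
        _ = (q₀.1 : G) * ((q₀.1 : G) * x * q₀.1) * q.1.1 := by rw [h0]
        _ = x * ((q₀.1 : G) * q.1.1) := by rw [← mul_assoc, ← mul_assoc, hTT, one_mul, mul_assoc]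
    · intro q q' h
      have h' : (q.1.1 : G) = q'.1.1 := mul_left_cancel (congrArg Subtype.val h)
      have e1 := q.2
      have e2 := q'.2
      rw [h'] at e1
      exact Subtype.ext (Prod.ext (Subtype.ext h') (Subtype.ext (mul_left_cancel (e1.trans e2.symm))))
  by_contra hcon
  push Not at hcon
  have hb : ∀ x : G, x ≠ 1 → 2 * (c * c) * N x ≤ n := by
    intro x hx
    refine le_trans (Nat.mul_le_mul_left _ (hN x)) ?_
    rw [hn, ← Subgroup.card_mul_index (Subgroup.centralizer ({x} : Set G)), mul_comm]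
    exact Nat.mul_le_mul_left _ (hcon x hx).le
  have hrest : 2 * (c * c) * ∑ x ∈ Finset.univ.erase (1 : G), N x ≤ (n - 1) * n := by
    rw [Finset.mul_sum]
    refine le_trans (Finset.sum_le_sum fun x hx => hb x (Finset.ne_of_mem_erase hx)) ?_
    rw [Finset.sum_const, Finset.card_erase_of_mem (Finset.mem_univ _), Finset.card_univ,
      ← Nat.card_eq_fintype_card, smul_eq_mul]
  rw [← Finset.add_sum_erase _ _ (Finset.mem_univ (1 : G))] at hsum
  have hpos : 1 ≤ n := Nat.card_pos
  have hc : 1 ≤ c * c := by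
    have : 1 ≤ c := le_trans Nat.card_pos hcw
    nlinarith
  obtain ⟨n', hn'⟩ : ∃ n', n = n' + 1 := ⟨n - 1, by omega⟩
  rw [hn', Nat.add_sub_cancel] at hrest
  obtain ⟨k', hk'⟩ : ∃ k', k = k' + 2 := ⟨k - 2, by omega⟩
  rw [hk'] at hnk hone hsum
  rw [hn'] at hnk
  have h1 : (n' + 1) * (n' + 1) ≤ ((k' + 2) * c) * ((k' + 2) * c) := Nat.mul_le_mul hnk hnk
  have h2 : (k' + 2) * (k' + 1) ≤ ∑ x ∈ Finset.univ.erase (1 : G), N x := by nlinarith
  have h3 := Nat.mul_le_mul_left (2 * (c * c)) h2
  nlinarith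

/-- The exponent of two and the bound. -/
theorem exists_bound (a : ℕ) : ∀ c : ℕ, ∃ N : ℕ, ∀ (G : Type u) [Group G] [Finite G] (s t : G),
    Four c s t → (Nat.card G).factorization 2 ≤ a → Nat.card G ≤ N := by
  induction a with
  | zero =>
    refine fun c => ⟨0, fun G _ _ s t h h2 => absurd h2 ?_⟩
    have hd : 2 ∣ Nat.card G := by
      have : orderOf s = 2 := orderOf_eq_prime (by rw [pow_two, h.ss]) h.s1
      exact this ▸ orderOf_dvd_natCard s
    exact Nat.not_le_of_lt (Nat.Prime.factorization_pos_of_dvd Nat.prime_two Nat.card_pos.ne' hd)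
  | succ a ih =>
    intro c
    set c₁ := c * c * c * c with hc₁
    set m := (2 * (c₁ * c₁)).factorial * 2 ^ (a + 1) with hm
    obtain ⟨N', hN'⟩ := ih (m * c₁)
    refine ⟨c * c * c * (c₁ + m * c₁ + m * N'), fun G _ _ s t h h2 => ?_⟩
    obtain ⟨O, hOn, hOo, hOmax⟩ := exists_odd_radical G
    have hcon : ∀ w : G, w * w = 1 → ∀ x ∈ O, w * x * w ∈ O := fun w hw x hx => by
      have := hOn.conj_mem x hx w
      rwa [inv_eq_of_mul_eq_one_right hw] at this
    have hO := card_odd_le hOo h.ss h.tt h.comm (hcon s h.ss) (hcon t h.tt) h.cs h.ct h.cu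
    have hnot : ∀ w : G, w * w = 1 → w ≠ 1 → w ∉ O := by
      intro w hw hw1 hm
      have := Subgroup.orderOf_dvd_natCard O hm
      rw [orderOf_eq_prime (by rw [pow_two, hw]) hw1] at this
      exact Nat.not_even_iff_odd.mpr hOo (even_iff_two_dvd.mpr this)
    have hu : (s * t) * (s * t) = 1 := by
      nth_rw 2 [h.comm]
      rw [mul_assoc, ← mul_assoc t, h.tt, one_mul, h.ss]
    have hu1 : s * t ≠ 1 := fun e => h.ne ((eq_inv_of_mul_eq_one_left e).trans
      (inv_eq_of_mul_eq_one_right h.tt))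
    have hF := h.quot hO (hnot s h.ss h.s1) (hnot t h.tt h.t1) (hnot _ hu hu1)
    rw [← hc₁] at hF
    rw [Subgroup.card_eq_card_quotient_mul_card_subgroup O, mul_comm (Nat.card (G ⧸ O))]
    refine Nat.mul_le_mul hO ?_
    -- the quotient has no normal subgroup of odd order
    have hodd1 : ∀ K : Subgroup (G ⧸ O), K.Normal → Odd (Nat.card K) → K = ⊥ := by
      intro K hK hKo
      have hle : K.comap (QuotientGroup.mk' O) ≤ O := by
        refine hOmax _ (hK.comap _) ?_
        rw [← Nat.not_even_iff_odd, even_iff_two_dvd]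
        intro h2d
        haveI := Fact.mk Nat.prime_two
        obtain ⟨g, hg⟩ := exists_prime_orderOf_dvd_card' (G := K.comap (QuotientGroup.mk' O)) 2 h2d
        rw [← Subgroup.orderOf_coe] at hg
        have hg2 : (g : G) * g = 1 := by
          rw [← pow_two, ← hg]; exact pow_orderOf_eq_one _
        refine hnot g hg2 (fun e => by rw [e, orderOf_one] at hg; norm_num at hg) ?_
        have hmem : QuotientGroup.mk' O (g : G) ∈ K := g.2
        refine (QuotientGroup.eq_one_iff (g : G)).mp
          (orderOf_eq_one_iff.mp (Nat.eq_one_of_dvd_coprimes (a := 2)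
            (Nat.coprime_two_left.mpr hKo)
            (orderOf_dvd_of_pow_eq_one ?_) (Subgroup.orderOf_dvd_natCard K hmem)))
        rw [pow_two]
        exact (QuotientGroup.mk_mul O _ _).symm.trans (congrArg _ hg2)
      rw [eq_bot_iff]
      intro q hq
      obtain ⟨g, rfl⟩ := QuotientGroup.mk'_surjective O q
      exact (QuotientGroup.eq_one_iff g).mpr (hle hq)
    have h2' : (Nat.card (G ⧸ O)).factorization 2 ≤ a + 1 :=
      le_trans ((Nat.factorization_le_iff_dvd Nat.card_pos.ne' Nat.card_pos.ne').mpr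
        (Subgroup.card_quotient_dvd_card O) 2) h2
    by_cases hcen : ∀ g : G ⧸ O, g * (s : G ⧸ O) * g⁻¹ = s
    · refine le_trans ?_ (le_of_le_of_eq (Nat.le_add_right c₁ (m * c₁ + m * N')) (by ring))
      have e : Subgroup.centralizer ({(s : G ⧸ O)} : Set (G ⧸ O)) = ⊤ :=
        (Subgroup.eq_top_iff' _).mpr (fun g => Subgroup.mem_centralizer_singleton_iff.mpr
          (mul_inv_eq_iff_eq_mul.mp (hcen g)))
      have := hF.cs
      rwa [e, Subgroup.card_top] at this
    push Not at hcen
    obtain ⟨x, hx1, hxi⟩ := exists_small_index hF.ss hF.cs hcen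
    set H := (Subgroup.centralizer ({x} : Set (G ⧸ O))).normalCore with hH
    set M := Subgroup.centralizer (H : Set (G ⧸ O)) with hMdef
    have hxM : x ∈ M := by
      rw [hMdef, Subgroup.mem_centralizer_iff]
      intro g hg
      exact Subgroup.mem_centralizer_singleton_iff.mp
        (Subgroup.normalCore_le (Subgroup.centralizer ({x} : Set (G ⧸ O))) hg)
    have hHi : H.index ≤ (2 * (c₁ * c₁)).factorial :=
      le_trans (Nat.le_of_dvd (Nat.factorial_pos _) (by
        rw [hH, Subgroup.normalCore_eq_ker, Subgroup.index_ker]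
        refine dvd_trans (Subgroup.card_subgroup_dvd_card _) ?_
        classical
        letI := Fintype.ofFinite ((G ⧸ O) ⧸ Subgroup.centralizer ({x} : Set (G ⧸ O)))
        rw [Nat.card_eq_fintype_card, Fintype.card_perm, ← Nat.card_eq_fintype_card, Subgroup.index]))
        (Nat.factorial_le hxi)
    have hA : Nat.card (H ⊓ M : Subgroup (G ⧸ O)) ≤ 2 ^ (a + 1) := by
      set A := H ⊓ M with hAdef
      have hab : ∀ x y : A, x * y = y * x := fun x y =>
        Subtype.ext (Subgroup.mem_centralizer_iff.mp y.2.2 x x.2.1)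
      letI : CommGroup A := { (inferInstance : Group A) with mul_comm := hab }
      set P := (powMonoidHom (2 ^ (a + 1)) : A →* A) with hP
      have hPn : (P.range.map A.subtype).Normal := ⟨fun q hq g => by
        obtain ⟨_, ⟨z, rfl⟩, rfl⟩ := hq
        have hz : g * (z : G ⧸ O) * g⁻¹ ∈ A := (inferInstance : A.Normal).conj_mem z z.2 g
        refine ⟨_, ⟨⟨_, hz⟩, rfl⟩, ?_⟩
        simp only [hP, powMonoidHom_apply, Subgroup.subtype_apply, SubmonoidClass.coe_pow]
        exact conj_pow⟩
      have hbot := hodd1 _ hPn (by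
        rw [Subgroup.card_map_of_injective A.subtype_injective]
        rw [← Nat.not_even_iff_odd, even_iff_two_dvd]
        intro h2d
        haveI := Fact.mk Nat.prime_two
        obtain ⟨q, hq⟩ := exists_prime_orderOf_dvd_card' (G := P.range) 2 h2d
        obtain ⟨_, ⟨z, rfl⟩⟩ := q
        rw [← Subgroup.orderOf_coe] at hq
        set e := (orderOf z).factorization 2 with he
        have he' : e ≤ a + 1 := le_trans ((Nat.factorization_le_iff_dvd (orderOf_pos z).ne'
          Nat.card_pos.ne').mpr (orderOf_dvd_natCard z |>.trans (Subgroup.card_subgroup_dvd_card A)) 2) h2'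
        have hdiv : orderOf (P z) ∣ orderOf z / 2 ^ e := by
          refine orderOf_dvd_of_pow_eq_one ?_
          rw [hP, powMonoidHom_apply, ← pow_mul, ← orderOf_dvd_iff_pow_eq_one]
          conv_lhs => rw [← Nat.ordProj_mul_ordCompl_eq_self (orderOf z) 2]
          exact Nat.mul_dvd_mul_right (Nat.pow_dvd_pow 2 he') _
        refine Nat.not_dvd_ordCompl Nat.prime_two (orderOf_pos z).ne' ?_
        exact (dvd_of_eq hq.symm).trans hdiv)
      rw [Subgroup.map_eq_bot_iff_of_injective _ A.subtype_injective] at hbot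
      haveI := Fact.mk Nat.prime_two
      have hp : IsPGroup 2 A := fun z => ⟨a + 1, by
        have hz : P z ∈ P.range := ⟨z, rfl⟩
        rw [hbot, Subgroup.mem_bot] at hz
        exact hz⟩
      obtain ⟨k, hk⟩ := hp.exists_card_eq
      rw [hk]
      refine Nat.pow_le_pow_right (by norm_num) (le_trans ?_ h2')
      exact (Nat.Prime.pow_dvd_iff_le_factorization Nat.prime_two Nat.card_pos.ne').mp
        (hk ▸ Subgroup.card_subgroup_dvd_card A)
    have hMc : Nat.card M ≤ m := by
      rw [hm, ← Subgroup.card_mul_index ((H ⊓ M).subgroupOf M), mul_comm,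
        Nat.card_congr (Subgroup.subgroupOfEquivOfLe inf_le_right).toEquiv]
      refine Nat.mul_le_mul (le_trans ?_ hHi) hA
      rw [← Subgroup.relIndex, Subgroup.inf_relIndex_right]
      exact Nat.le_of_dvd (Nat.pos_of_ne_zero Subgroup.index_ne_zero_of_finite)
        (Subgroup.relIndex_dvd_index_of_normal H M)
    by_cases hmem : ∃ w : G ⧸ O, w ∈ M ∧ Nat.card (Subgroup.centralizer ({w} : Set (G ⧸ O))) ≤ c₁
    · obtain ⟨w, hwM, hwc⟩ := hmem
      refine le_trans ((card_le_of_mem hwM hwc).trans (Nat.mul_le_mul_right c₁ hMc)) (by omega)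
    push Not at hmem
    have hG2 := hF.quot hMc (fun e => (hmem _ e).not_ge hF.cs) (fun e => (hmem _ e).not_ge hF.ct)
      (fun e => (hmem _ e).not_ge hF.cu)
    have heven : 2 ∣ Nat.card M := by
      by_contra hodd
      have := hodd1 M inferInstance (Nat.not_even_iff_odd.mp (fun e => hodd (even_iff_two_dvd.mp e)))
      rw [this, Subgroup.mem_bot] at hxM
      exact hx1 hxM
    have hfac : (Nat.card ((G ⧸ O) ⧸ M)).factorization 2 ≤ a := by
      have := h2'
      rw [Subgroup.card_eq_card_quotient_mul_card_subgroup M,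
        Nat.factorization_mul Nat.card_pos.ne' Nat.card_pos.ne', Finsupp.add_apply] at this
      have := Nat.Prime.factorization_pos_of_dvd Nat.prime_two Nat.card_pos.ne' heven
      omega
    have := hN' ((G ⧸ O) ⧸ M) _ _ hG2 hfac
    rw [Subgroup.card_eq_card_quotient_mul_card_subgroup M, mul_comm]
    refine le_trans (Nat.mul_le_mul hMc this) (by omega)

end CfsgLib.Char.FourBound
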