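import Mathlib.GroupTheory.OrderOfElement
import Mathlib.GroupTheory.Coset.Card
import Mathlib.GroupTheory.QuotientGroup.Basic
import Mathlib.Tactic

/-!
# An odd subgroup normalized by a four-group is bounded by the three centralizers

`card_odd_le`: if the commuting involutions `s`, `t` normalize the subgroup `O` of odd order and the
centralizers of `s`, `t` and `s * t` have at most `c` elements, then `|O| ≤ c ^ 3`.
-/

set_option autoImplicit false

namespace CfsgLib.Char.FourBound

universe u

variable {G : Type u} [Group G] [Finite G]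

/-- A bound for a type by a map with bounded fibres. -/
theorem card_le_of_fibres {α β : Type*} [Finite α] [Finite β] (f : α → β) {c : ℕ}
    (h : ∀ b, Nat.card {a // f a = b} ≤ c) : Nat.card α ≤ Nat.card β * c := by
  have := Fintype.ofFinite β
  rw [← Nat.card_congr (Equiv.sigmaFiberEquiv f), Nat.card_sigma, Nat.card_eq_fintype_card (α := β)]
  calc ∑ b, Nat.card {a // f a = b} ≤ ∑ _b : β, c := Finset.sum_le_sum fun b _ => h b
    _ = _ := by simp

theorem sq_cancel {g : G} (hg : Odd (orderOf g)) (h : g * g = 1) : g = 1 := by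
  have h2 : orderOf g ∣ 2 := orderOf_dvd_of_pow_eq_one (by rw [pow_two, h])
  rcases (Nat.dvd_prime Nat.prime_two).mp h2 with e | e
  · exact orderOf_eq_one_iff.mp e
  · rw [e] at hg; exact absurd hg (by decide)

/-- An element of odd order which inverts `w` up to conjugation forces `w * w = 1`. -/
theorem fixed_of_inverting {y w : G} (hy : Odd (orderOf y)) (hyw : y * w * y⁻¹ = w⁻¹) :
    w * w = 1 := by
  obtain ⟨k, hk⟩ := hy
  have h2 : (y * y) * w = w * (y * y) := by
    have : y * y * w * (y * y)⁻¹ = w := by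
      calc y * y * w * (y * y)⁻¹ = y * (y * w * y⁻¹) * y⁻¹ := by group
        _ = y * w⁻¹ * y⁻¹ := by rw [hyw]
        _ = (y * w * y⁻¹)⁻¹ := by group
        _ = w := by rw [hyw, inv_inv]
    exact mul_inv_eq_iff_eq_mul.mp this
  have hyk : (y * y) ^ (k + 1) = y := by
    rw [← pow_two, ← pow_mul, show 2 * (k + 1) = orderOf y + 1 by omega, pow_succ,
      pow_orderOf_eq_one, one_mul]
  have hc : Commute y w := hyk ▸ (Commute.pow_left h2 (k + 1))
  rw [hc.eq, mul_inv_cancel_right] at hyw
  nth_rw 2 [hyw]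
  exact mul_inv_cancel w

variable {s t : G} {O : Subgroup G}

theorem conj_self (hs : s * s = 1) (x : G) : s * (s * x * s) * s = x := by
  calc s * (s * x * s) * s = (s * s) * x * (s * s) := by group
    _ = x := by rw [hs]; group

theorem conj_mul (hs : s * s = 1) (x y : G) : s * (x * y) * s = (s * x * s) * (s * y * s) := by
  calc s * (x * y) * s = s * x * 1 * y * s := by group
    _ = (s * x * s) * (s * y * s) := by rw [← hs]; group

theorem conj_inv' (hs : s * s = 1) (x : G) : s * x⁻¹ * s = (s * x * s)⁻¹ := by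
  have hsi : s⁻¹ = s := inv_eq_of_mul_eq_one_right hs
  rw [mul_inv_rev, mul_inv_rev, hsi, mul_assoc]

theorem conj_pow' (hs : s * s = 1) (x : G) (n : ℕ) : s * x ^ n * s = (s * x * s) ^ n := by
  have hsi : s⁻¹ = s := inv_eq_of_mul_eq_one_right hs
  have := (conj_pow (i := n) (a := s) (b := x))
  rw [hsi] at this
  exact this.symm

/-- **The bound.** -/
theorem card_odd_le (hO : Odd (Nat.card O)) (hs : s * s = 1) (ht : t * t = 1) (hst : s * t = t * s)
    (hsO : ∀ x ∈ O, s * x * s ∈ O) (htO : ∀ x ∈ O, t * x * t ∈ O) {c : ℕ}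
    (hcs : Nat.card (Subgroup.centralizer ({s} : Set G)) ≤ c)
    (hct : Nat.card (Subgroup.centralizer ({t} : Set G)) ≤ c)
    (hcu : Nat.card (Subgroup.centralizer ({s * t} : Set G)) ≤ c) :
    Nat.card O ≤ c * c * c := by
  classical
  obtain ⟨m, hm⟩ := hO
  have hpow : ∀ x ∈ O, x ^ (2 * m + 1) = 1 := fun x hx => by
    rw [← hm]
    exact congrArg Subtype.val (pow_card_eq_one' (x := (⟨x, hx⟩ : O)))
  have hodd : ∀ x ∈ O, Odd (orderOf x) := fun x hx =>
    Odd.of_dvd_nat ⟨m, rfl⟩ (orderOf_dvd_of_pow_eq_one (hpow x hx))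
  set rt : G → G := fun x => x ^ (m + 1) with hrt
  have hrtO : ∀ x ∈ O, rt x ∈ O ∧ rt x * rt x = x := fun x hx => by
    refine ⟨pow_mem hx _, ?_⟩
    rw [hrt]
    simp only
    rw [← pow_add, show m + 1 + (m + 1) = (2 * m + 1) + 1 by omega, pow_succ, hpow x hx, one_mul]
  -- the elements of `O` inverted by `s`
  let I := {x : G // x ∈ O ∧ s * x * s = x⁻¹}
  let f : O → I := fun x => ⟨(x : G)⁻¹ * (s * x * s), O.mul_mem (O.inv_mem x.2) (hsO x x.2), by
    rw [conj_mul hs, conj_inv' hs, conj_self hs]; group⟩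
  have hf : ∀ b, Nat.card {a // f a = b} ≤ c := by
    intro b
    rcases isEmpty_or_nonempty {a // f a = b} with he | ⟨⟨a₀, ha₀⟩⟩
    · rw [Nat.card_of_isEmpty]; exact Nat.zero_le _
    refine le_trans (Nat.card_le_card_of_injective
      (fun a => (⟨((a.1 : O) : G) * ((a₀ : O) : G)⁻¹, ?_⟩ : Subgroup.centralizer ({s} : Set G))) ?_) hcs
    · have e : ((a.1 : O) : G)⁻¹ * (s * (a.1 : O) * s) = ((a₀ : O) : G)⁻¹ * (s * (a₀ : O) * s) :=
        congrArg Subtype.val (a.2.trans ha₀.symm)
      have e2 : s * ((a.1 : O) : G) * s * (s * ((a₀ : O) : G) * s)⁻¹ =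
          ((a.1 : O) : G) * ((a₀ : O) : G)⁻¹ := by
        rw [inv_mul_eq_iff_eq_mul.mp e]
        group
      rw [← conj_inv' hs, ← conj_mul hs] at e2
      rw [Subgroup.mem_centralizer_singleton_iff]
      nth_rw 1 [← e2]
      rw [mul_assoc, hs, mul_one]
    · intro a a' h
      exact Subtype.ext (Subtype.ext (mul_right_cancel (congrArg Subtype.val h)))
  refine (card_le_of_fibres f hf).trans (Nat.mul_le_mul_right c ?_)
  -- decompose an element inverted by `s` along `t`
  let g : I → Subgroup.centralizer ({t} : Set G) := fun i =>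
    ⟨(i : G) * rt ((i : G)⁻¹ * (t * i * t)), by
      have hd : (i : G)⁻¹ * (t * i * t) ∈ O := O.mul_mem (O.inv_mem i.2.1) (htO i i.2.1)
      obtain ⟨hyO, hy2⟩ := hrtO _ hd
      have hty : t * rt ((i : G)⁻¹ * (t * i * t)) * t = (rt ((i : G)⁻¹ * (t * i * t)))⁻¹ := by
        rw [hrt]
        simp only
        rw [conj_pow' ht, conj_mul ht, conj_self ht, conj_inv' ht, ← inv_pow]
        group
      rw [Subgroup.mem_centralizer_singleton_iff]
      set y := rt ((i : G)⁻¹ * (t * i * t))
      have e : t * ((i : G) * y) * t = (i : G) * y := by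
        rw [conj_mul ht, hty]
        nth_rw 1 [show t * (i : G) * t = (i : G) * (y * y) by rw [hy2]; group]
        group
      nth_rw 1 [← e]
      rw [mul_assoc, ht, mul_one]⟩
  have hg : ∀ z, Nat.card {a // g a = z} ≤ c := by
    intro z
    set r := rt (z : G) with hr
    refine le_trans (Nat.card_le_card_of_injective
      (fun a => (⟨r * rt (((a.1 : I) : G)⁻¹ * (t * (a.1 : I) * t)) * r⁻¹, ?_⟩ :
        Subgroup.centralizer ({s * t} : Set G))) ?_) hcu
    · set i : G := ((a.1 : I) : G) with hi
      obtain ⟨hiO, his⟩ := (a.1 : I).2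
      have hd : i⁻¹ * (t * i * t) ∈ O := O.mul_mem (O.inv_mem hiO) (htO i hiO)
      obtain ⟨hyO, hy2⟩ := hrtO _ hd
      set y := rt (i⁻¹ * (t * i * t)) with hy
      have hty : t * y * t = y⁻¹ := by
        rw [hy, hrt]
        simp only
        rw [conj_pow' ht, conj_mul ht, conj_self ht, conj_inv' ht, ← inv_pow]
        group
      have hz : (z : G) = i * y := (congrArg Subtype.val a.2).symm
      have htz : t * (z : G) * t = z := by
        have := Subgroup.mem_centralizer_singleton_iff.mp z.2
        calc t * (z : G) * t = (z : G) * (t * t) := by rw [← this]; group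
          _ = z := by rw [ht, mul_one]
      have hsz0 : i = (z : G) * y⁻¹ := by rw [hz]; group
      -- `s` sends `y` to a conjugate of its inverse
      have hsy : (s * y * s)⁻¹ = (s * (z : G) * s)⁻¹ * (y * (z : G)⁻¹) := by
        have : s * i * s = i⁻¹ := his
        rw [hsz0, conj_mul hs, conj_inv' hs,
          show ((z : G) * y⁻¹)⁻¹ = y * (z : G)⁻¹ by group] at this
        exact eq_inv_mul_of_mul_eq this
      have hts : ∀ x, t * (s * x * s) * t = s * (t * x * t) * s := fun x => by
        calc t * (s * x * s) * t = (t * s) * x * (s * t) := by group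
          _ = (s * t) * x * (t * s) := by rw [hst]
          _ = _ := by group
      have hsz : (s * (z : G) * s) * z = 1 := by
        have h1 := congrArg (fun x => t * x * t) hsy
        beta_reduce at h1
        rw [conj_inv' ht, hts, hty, conj_inv' hs, inv_inv, conj_mul ht, conj_mul ht, conj_inv' ht,
          conj_inv' ht, hts, hty, htz] at h1
        have hyw : y * ((s * (z : G) * s) * z) * y⁻¹ = ((s * (z : G) * s) * z)⁻¹ := by
          have h2 : s * y * s = (z : G) * y⁻¹ * (s * z * s) := by
            rw [← inv_inv (s * y * s), hsy]; group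
          rw [h2] at h1
          calc y * ((s * (z : G) * s) * z) * y⁻¹
              = y * (s * z * s) * ((z : G) * y⁻¹ * (s * z * s)) * (s * z * s)⁻¹ := by group
            _ = y * (s * z * s) * ((s * z * s)⁻¹ * (y⁻¹ * (z : G)⁻¹)) * (s * z * s)⁻¹ := by rw [h1]
            _ = ((s * (z : G) * s) * z)⁻¹ := by group
        have hwO : (s * (z : G) * s) * z ∈ O := by
          have hzO : (z : G) ∈ O := hz ▸ O.mul_mem hiO hyO
          exact O.mul_mem (hsO _ hzO) hzO
        exact sq_cancel (hodd _ hwO) (fixed_of_inverting (hodd y hyO) hyw)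
      have hszi : s * (z : G) * s = (z : G)⁻¹ := eq_inv_of_mul_eq_one_left hsz
      have hzO : (z : G) ∈ O := hz ▸ O.mul_mem hiO hyO
      obtain ⟨hrO, hr2⟩ := hrtO _ hzO
      rw [← hr] at hr2
      have hu : ∀ x, s * t * x * (s * t) = s * (t * x * t) * s := fun x => by
        nth_rw 2 [hst]; group
      have hu2 : (s * t) * (s * t) = 1 := by
        nth_rw 2 [hst]
        rw [mul_assoc, ← mul_assoc t, ht, one_mul, hs]
      have hur : s * t * r * (s * t) = r⁻¹ := by
        rw [hr, hrt]
        simp only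
        rw [conj_pow' hu2, hu, htz, hszi, inv_pow]
      have huy : s * t * y * (s * t) = (z : G) * y * (z : G)⁻¹ := by
        rw [hu, hty, conj_inv' hs, hsy, hszi, inv_inv, mul_assoc]
      have hfix : s * t * (r * y * r⁻¹) * (s * t) = r * y * r⁻¹ := by
        rw [conj_mul hu2, conj_mul hu2, conj_inv' hu2, hur, huy, inv_inv, ← hr2]
        group
      rw [Subgroup.mem_centralizer_singleton_iff]
      nth_rw 1 [← hfix]
      rw [mul_assoc, hu2, mul_one]
    · intro a a' h
      have e := mul_left_cancel (mul_right_cancel (congrArg Subtype.val h))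
      have e1 : ((a.1 : I) : G) * rt (((a.1 : I) : G)⁻¹ * (t * (a.1 : I) * t)) =
          ((a'.1 : I) : G) * rt (((a'.1 : I) : G)⁻¹ * (t * (a'.1 : I) * t)) :=
        congrArg Subtype.val (a.2.trans a'.2.symm)
      rw [e] at e1
      exact Subtype.ext (Subtype.ext (mul_right_cancel e1))
  exact (card_le_of_fibres g hg).trans (Nat.mul_le_mul_right c hct)

end CfsgLib.Char.FourBound
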